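import Mathlib

/-!
# Quasi-homeomorphisms and sheaves
-/

set_option autoImplicit false

universe u

open CategoryTheory CategoryTheory.Limits TopologicalSpace Opposite TopCat
open scoped AlgebraicGeometry
open StalkSkyscraperPresheafAdjunctionAuxs

namespace Groth.Agent.QHomeo5

variable {X₀ X : TopCat.{u}} (f : X₀ ⟶ X)
variable (C : Type (u + 1)) [Category.{u} C] {FC : C → C → Type*} {CC : C → Type u}
  [hFL : ∀ A B, FunLike (FC A B) (CC A) (CC B)] [hCC : ConcreteCategory.{u} C FC] [HasLimits C]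
  [hPL : PreservesLimits (CategoryTheory.forget C)]
  [hRI : (CategoryTheory.forget C).ReflectsIsomorphisms]

include hFL hCC hPL hRI

omit hFL hCC hPL hRI in
/-- The equivalence of the categories of opens. -/
theorem isEquivalence_map (hf : Function.Bijective fun U : Opens X => (Opens.map f).obj U) :
    (Opens.map f).IsEquivalence := by
  have hle : ∀ U V : Opens X, (Opens.map f).obj U ≤ (Opens.map f).obj V → U ≤ V := by
    intro U V h
    have h1 : (Opens.map f).obj (U ⊓ V) = (Opens.map f).obj U := by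
      ext z
      exact ⟨fun hz => hz.1, fun hz => ⟨hz, h hz⟩⟩
    exact inf_eq_left.1 (hf.1 h1)
  haveI : (Opens.map f).Full := ⟨fun {U V} g => ⟨homOfLE (hle U V (leOfHom g)), Subsingleton.elim _ _⟩⟩
  haveI : (Opens.map f).Faithful := ⟨fun _ => Subsingleton.elim _ _⟩
  haveI : (Opens.map f).EssSurj := ⟨fun W => by
    obtain ⟨U, rfl⟩ := hf.2 W
    exact ⟨U, ⟨Iso.refl _⟩⟩⟩
  exact { }

/-- A presheaf is a sheaf if its direct image is, for a quasi-homeomorphism. -/
theorem isSheaf_of_pushforward (hf : Function.Bijective fun U : Opens X => (Opens.map f).obj U)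
    (P : X₀.Presheaf C) (h : (f _* P).IsSheaf) : P.IsSheaf := by
  rw [Presheaf.isSheaf_iff_isSheafUniqueGluing] at h ⊢
  intro ι W sf hsf
  choose U hU using fun i => hf.2 (W i)
  obtain rfl : (fun i => (Opens.map f).obj (U i)) = W := funext hU
  have hcompat : Presheaf.IsCompatible (f _* P) U sf := fun i j => hsf i j
  obtain ⟨s, hs, hsu⟩ := h U sf hcompat
  have hsup : (Opens.map f).obj (iSup U) = ⨆ i, (Opens.map f).obj (U i) := Opens.map_iSup f U
  have e1 : ∀ (i : ι) (s : ToType (P.obj (op ((Opens.map f).obj (iSup U))))),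
      P.map (Opens.leSupr _ i).op (P.map (eqToHom hsup.symm).op s) = (f _* P).map (Opens.leSupr U i).op s := by
    intro i s
    rw [← ConcreteCategory.comp_apply, ← Functor.map_comp]
    rfl
  refine ⟨P.map (eqToHom hsup.symm).op s, fun i => (e1 i s).trans (hs i), fun t ht => ?_⟩
  have h1 : P.map (eqToHom hsup).op t = s := hsu _ fun i => by
    rw [← ht i, ← e1]
    congr 1
    rw [← ConcreteCategory.comp_apply, ← Functor.map_comp, ← op_comp, eqToHom_trans, eqToHom_refl, op_id, P.map_id, ConcreteCategory.id_apply]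
  rw [← h1, ← ConcreteCategory.comp_apply, ← Functor.map_comp, ← op_comp, eqToHom_trans, eqToHom_refl, op_id, P.map_id, ConcreteCategory.id_apply]

/-- The direct image functor of a quasi-homeomorphism is an equivalence. -/
theorem isEquivalence_pushforward (hf : Function.Bijective fun U : Opens X => (Opens.map f).obj U) :
    (Sheaf.pushforward C f).IsEquivalence := by
  haveI := isEquivalence_map f hf
  let e := (Opens.map f).op.asEquivalence
  haveI : (Presheaf.pushforward C f).IsEquivalence :=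
    inferInstanceAs ((Functor.whiskeringLeft _ _ C).obj (Opens.map f).op).IsEquivalence
  haveI : (Sheaf.pushforward C f).Faithful :=
    Functor.Faithful.of_comp_iso (Sheaf.pushforwardForgetIso C f)
  haveI : (Sheaf.pushforward C f).Full :=
    Functor.Full.of_comp_faithful_iso (Sheaf.pushforwardForgetIso C f)
  haveI : (Sheaf.pushforward C f).EssSurj := ⟨fun G => by
    let P : X₀.Presheaf C := e.inverse ⋙ G.obj
    let a : f _* P ≅ G.obj :=
      (Functor.associator e.functor e.inverse G.obj).symm ≪≫ Functor.isoWhiskerRight e.unitIso.symm G.obj ≪≫ Functor.leftUnitor _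
    exact ⟨⟨P, isSheaf_of_pushforward f C hf P (Presheaf.isSheaf_of_iso a.symm G.property)⟩,
      ⟨(sheafToPresheaf _ _).preimageIso a⟩⟩⟩
  exact { }

open Classical in
/-- The opens of the target are determined by their preimages. -/
theorem injective_of_essSurj [(Sheaf.pushforward C f).EssSurj] (A : C) (a b : ToType A) (hab : a ≠ b) :
    Function.Injective fun U : Opens X => (Opens.map f).obj U := by
  haveI : Subsingleton (ToType (⊤_ C)) :=
    ((Types.isTerminalEquivUnique _) (IsTerminal.isTerminalObj (CategoryTheory.forget C) (⊤_ C) terminalIsTerminal)).instSubsingleton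
  have key : ∀ U V : Opens X, U ≤ V → (Opens.map f).obj U = (Opens.map f).obj V → V ≤ U := by
    intro U V hUV he x hxV
    by_contra hxU
    let G : Sheaf C X := skyscraperSheaf x A
    let S := (Sheaf.pushforward C f).objPreimage G
    let φ : f _* S.obj ≅ G.obj :=
      (sheafToPresheaf _ _).mapIso ((Sheaf.pushforward C f).objObjPreimageIso G)
    have e : G.obj.obj (op V) ≅ ⊤_ C :=
      (φ.app (op V)).symm ≪≫ S.obj.mapIso (eqToIso (congrArg op he.symm)) ≪≫ φ.app (op U) ≪≫
        eqToIso (if_neg hxU)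
    have e' : A ≅ ⊤_ C := eqToIso (if_pos hxV).symm ≪≫ e
    have h1 : e'.hom a = e'.hom b := Subsingleton.elim _ _
    apply hab
    have h2 := congrArg e'.inv h1
    rwa [← ConcreteCategory.comp_apply, ← ConcreteCategory.comp_apply, e'.hom_inv_id, ConcreteCategory.id_apply, ConcreteCategory.id_apply] at h2
  intro U V h
  have h' : (Opens.map f).obj (U ⊓ V) = (Opens.map f).obj U := by
    ext z
    exact ⟨fun hz => hz.1, fun hz => ⟨hz, (congrArg (fun W : Opens X₀ => z ∈ W) h).mp hz⟩⟩
  have h'' : (Opens.map f).obj (U ⊓ V) = (Opens.map f).obj V := h'.trans h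
  exact le_antisymm ((key _ _ inf_le_left h').trans inf_le_right) ((key _ _ inf_le_right h'').trans inf_le_left)

variable [HasColimits C] [PreservesFilteredColimits (CategoryTheory.forget C)]

section Indicator

variable (A : C) (T : Set X₀)

omit hFL hCC hPL hRI in
/-- The presheaf of functions. -/
noncomputable def funPresheaf : X₀.Presheaf C where
  obj U := ∏ᶜ fun _ : {c : X₀ // c ∈ T ∧ c ∈ U.unop} => A
  map {U V} i := Pi.lift fun c => Pi.π (fun _ : {c : X₀ // c ∈ T ∧ c ∈ U.unop} => A) ⟨c.1, c.2.1, i.unop.le c.2.2⟩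
  map_id U := by
    apply Pi.hom_ext
    intro c
    simp
  map_comp i j := by
    apply Pi.hom_ext
    intro c
    simp

theorem funPresheaf_map_apply {U V : Opens X₀} (i : V ⟶ U) (s : ToType ((funPresheaf C A T).obj (op U)))
    (c : {c : X₀ // c ∈ T ∧ c ∈ V}) :
    Pi.π (fun _ : {c : X₀ // c ∈ T ∧ c ∈ V} => A) c ((funPresheaf C A T).map i.op s) =
      Pi.π (fun _ : {c : X₀ // c ∈ T ∧ c ∈ U} => A) ⟨c.1, c.2.1, i.le c.2.2⟩ s := by
  refine (ConcreteCategory.comp_apply _ _ _).symm.trans ?_
  congr 2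
  simp [funPresheaf]

theorem funPresheaf_ext {U : Opens X₀} (s t : ToType ((funPresheaf C A T).obj (op U)))
    (h : ∀ c : {c : X₀ // c ∈ T ∧ c ∈ U},
      Pi.π (fun _ : {c : X₀ // c ∈ T ∧ c ∈ U} => A) c s = Pi.π (fun _ : {c : X₀ // c ∈ T ∧ c ∈ U} => A) c t) :
    s = t :=
  (Concrete.productEquiv fun _ : {c : X₀ // c ∈ T ∧ c ∈ U} => A).injective (funext fun c => by
    rw [Concrete.productEquiv_apply_apply, Concrete.productEquiv_apply_apply]
    exact h c)

theorem isSheaf_funPresheaf : (funPresheaf C A T).IsSheaf := by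
  rw [Presheaf.isSheaf_iff_isSheafUniqueGluing]
  intro ι U sf hsf
  have hmem : ∀ c : {c : X₀ // c ∈ T ∧ c ∈ iSup U}, ∃ i, c.1 ∈ U i := fun c => Opens.mem_iSup.1 c.2.2
  choose idx hidx using hmem
  refine ⟨(Concrete.productEquiv fun _ : {c : X₀ // c ∈ T ∧ c ∈ iSup U} => A).symm
    fun c => Pi.π (fun _ : {d : X₀ // d ∈ T ∧ d ∈ U (idx c)} => A) ⟨c.1, c.2.1, hidx c⟩ (sf (idx c)),
    fun i => funPresheaf_ext C A T _ _ fun c => ?_, fun t ht => funPresheaf_ext C A T _ _ fun c => ?_⟩
  · rw [funPresheaf_map_apply]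
    refine (Concrete.productEquiv_symm_apply_π _ _ _).trans ?_
    let c' : {c : X₀ // c ∈ T ∧ c ∈ iSup U} := ⟨c.1, c.2.1, Opens.mem_iSup.2 ⟨i, c.2.2⟩⟩
    have h := congrArg (Pi.π (fun _ : {d : X₀ // d ∈ T ∧ d ∈ U (idx c') ⊓ U i} => A)
      ⟨c.1, c.2.1, hidx c', c.2.2⟩) (hsf (idx c') i)
    rwa [funPresheaf_map_apply, funPresheaf_map_apply] at h
  · rw [Concrete.productEquiv_symm_apply_π, ← ht (idx c), funPresheaf_map_apply]

end Indicator

open Classical in
/-- Every open of the source is a preimage. -/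
theorem surjective_of_full [(Sheaf.pushforward C f).Full] (A : C) (a b : ToType A) (hab : a ≠ b) :
    Function.Surjective fun U : Opens X => (Opens.map f).obj U := by
  intro W₀
  let T : Set X₀ := (W₀ : Set X₀)ᶜ
  let S : Sheaf C X₀ := ⟨funPresheaf C A T, isSheaf_funPresheaf C A T⟩
  suffices h : ∀ z ∈ W₀, ∃ U : Opens X, f z ∈ U ∧ (Opens.map f).obj U ≤ W₀ by
    refine ⟨sSup {U : Opens X | (Opens.map f).obj U ≤ W₀}, ?_⟩
    ext z
    refine ⟨fun hz => ?_, fun hz => ?_⟩
    · obtain ⟨U, hU, hzU⟩ := Opens.mem_sSup.1 hz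
      exact hU hzU
    · obtain ⟨U, hzU, hU⟩ := h z hz
      exact Opens.mem_sSup.2 ⟨U, hU, hzU⟩
  intro z hz
  let c := (f _* S.obj).stalk (f z)
  let sa : ToType (S.obj.obj (op ⊤)) := (Concrete.productEquiv fun _ : {c : X₀ // c ∈ T ∧ c ∈ (⊤ : Opens X₀)} => A).symm fun _ => a
  let sb : ToType (S.obj.obj (op ⊤)) := (Concrete.productEquiv fun _ : {c : X₀ // c ∈ T ∧ c ∈ (⊤ : Opens X₀)} => A).symm fun _ => b
  let τ : (Sheaf.pushforward C f).obj S ⟶ (Sheaf.pushforward C f).obj (skyscraperSheaf z c) :=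
    ⟨toSkyscraperPresheaf (f z) (𝟙 c)⟩
  let ψ : S ⟶ skyscraperSheaf z c := (Sheaf.pushforward C f).preimage τ
  have hψ : ψ.hom.app (op ⊤) = (toSkyscraperPresheaf (f z) (𝟙 c)).app (op ⊤) := by
    have := congrArg (fun t : (Sheaf.pushforward C f).obj S ⟶ (Sheaf.pushforward C f).obj (skyscraperSheaf z c) =>
      t.hom.app (op (⊤ : Opens X))) ((Sheaf.pushforward C f).map_preimage τ)
    exact this
  have heq : ψ.hom.app (op ⊤) sa = ψ.hom.app (op ⊤) sb := by
    have hres : S.obj.map (homOfLE (le_top : W₀ ≤ ⊤)).op sa = S.obj.map (homOfLE (le_top : W₀ ≤ ⊤)).op sb :=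
      funPresheaf_ext C A T _ _ fun d => (d.2.1 d.2.2).elim
    have h1 := congrArg (ψ.hom.app (op W₀)) hres
    rw [← ConcreteCategory.comp_apply, ← ConcreteCategory.comp_apply, ψ.hom.naturality,
      ConcreteCategory.comp_apply, ConcreteCategory.comp_apply] at h1
    haveI : IsIso ((skyscraperSheaf z c).obj.map (homOfLE (le_top : W₀ ≤ ⊤)).op) := by
      show IsIso ((skyscraperPresheaf z c).map _)
      rw [skyscraperPresheaf_map, dif_pos hz]
      exact ⟨eqToHom (by simp [hz]), eqToHom_trans _ _, eqToHom_trans _ _⟩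
    exact (ConcreteCategory.bijective_of_isIso _).1 h1
  rw [hψ] at heq
  have hgerm : (f _* S.obj).germ ⊤ (f z) trivial sa = (f _* S.obj).germ ⊤ (f z) trivial sb := by
    rw [toSkyscraperPresheaf_app, dif_pos (show f z ∈ (⊤ : Opens X) from trivial)] at heq
    exact (ConcreteCategory.bijective_of_isIso (𝟙 c ≫ eqToHom _)).1
      (((ConcreteCategory.comp_apply _ _ _).symm.trans heq).trans (ConcreteCategory.comp_apply _ _ _))
  obtain ⟨U, hzU, iU, iV, hUeq⟩ := Presheaf.germ_eq (C := C) (f _* S.obj) (U := ⊤) (V := ⊤) (f z) trivial trivial sa sb hgerm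
  refine ⟨U, hzU, fun d hd => ?_⟩
  by_contra hdW
  apply hab
  have h := congrArg (Pi.π (fun _ : {e : X₀ // e ∈ T ∧ e ∈ (Opens.map f).obj U} => A) ⟨d, hdW, hd⟩) hUeq
  have h' := ((funPresheaf_map_apply C A T ((Opens.map f).map iU) sa ⟨d, hdW, hd⟩).symm.trans h).trans
    (funPresheaf_map_apply C A T ((Opens.map f).map iV) sb ⟨d, hdW, hd⟩)
  exact ((Concrete.productEquiv_symm_apply_π _ _ _).symm.trans h').trans (Concrete.productEquiv_symm_apply_π _ _ _)

/-- Quasi-homeomorphisms are the maps whose inverse image functor on sheaves is an equivalence. -/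
theorem pullback_isEquivalence_iff (A : C) (a b : ToType A) (hab : a ≠ b) :
    (Sheaf.pullback C f).IsEquivalence ↔ Function.Bijective fun U : Opens X => (Opens.map f).obj U := by
  refine ⟨fun h => ?_, fun h => ?_⟩
  · haveI := (Sheaf.pullbackPushforwardAdjunction C f).isEquivalence_right_of_isEquivalence_left
    exact ⟨injective_of_essSurj f C A a b hab, surjective_of_full f C A a b hab⟩
  · haveI := isEquivalence_pushforward f C h
    exact (Sheaf.pullbackPushforwardAdjunction C f).isEquivalence_left_of_isEquivalence_right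

end Groth.Agent.QHomeo5
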